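import Groth.Agent.RatPtSmooth.Alg
import Groth.Agent.ASp.GeomRedEt
import Groth.Agent.DimFormulaLib.Field
import Groth.Agent.PullbackMod.LimFree
import Groth.Agent.EtAlgEasy.OmegaSmooth2
import Groth.Prelude.Def_FixPt

/-!
Smoothness at closed points of morphisms of smooth varieties.
-/

set_option autoImplicit false
set_option backward.isDefEq.respectTransparency false
set_option linter.style.haveILetI false

universe u

open CategoryTheory CategoryTheory.Limits AlgebraicGeometry TopologicalSpace Opposite IsLocalRing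
open scoped TensorProduct

namespace Groth.Agent.RatPtSmooth

variable {k : Type u} [Field k] {X Y : Scheme.{u}}

/-- The structure map of a local ring of a scheme over a field. -/
noncomputable def phi (q : X ⟶ Spec (CommRingCat.of k)) (x : X) : k →+* X.presheaf.stalk x :=
  ((Scheme.ΓSpecIso (CommRingCat.of k)).inv ≫ q.appTop ≫ X.presheaf.germ ⊤ x trivial).hom

theorem phi_comp (f : X ⟶ Y) (qY : Y ⟶ Spec (CommRingCat.of k)) {qX : X ⟶ Spec (CommRingCat.of k)} (hf : f ≫ qY = qX)
    (x : X) : (f.stalkMap x).hom.comp (phi qY (f x)) = phi qX x := by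
  subst hf
  have h : Y.presheaf.germ ⊤ (f x) trivial ≫ f.stalkMap x = f.appTop ≫ X.presheaf.germ ⊤ x trivial :=
    Scheme.Hom.germ_stalkMap f ⊤ x trivial
  rw [phi, phi, ← CommRingCat.hom_comp]
  simp only [Category.assoc, h, Scheme.Hom.comp_appTop]

theorem residue_phi_bijective [IsAlgClosed k] (q : X ⟶ Spec (CommRingCat.of k)) [LocallyOfFiniteType q] {x : X}
    (hx : IsClosed ({x} : Set X)) : Function.Bijective ((IsLocalRing.residue _).comp (phi q x)) := by
  haveI := LocallyOfFiniteType.jacobsonSpace q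
  have e : CommRingCat.ofHom ((IsLocalRing.residue _).comp (phi q x)) = (residueFieldIsoBase q x hx).inv := by
    refine Spec.map_injective ?_
    rw [SpecMap_residueFieldIsoBase_inv]
    have hq : q = X.toSpecΓ ≫ Spec.map ((Scheme.ΓSpecIso (CommRingCat.of k)).inv ≫ q.appTop) := by
      rw [Spec.map_comp, ← Scheme.toSpecΓ_naturality_assoc, ← SpecMap_ΓSpecIso_hom, ← Spec.map_comp,
        Iso.inv_hom_id, Spec.map_id, Category.comp_id]
    conv_rhs => rw [hq]
    have h : CommRingCat.ofHom ((IsLocalRing.residue _).comp (phi q x)) =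
        ((Scheme.ΓSpecIso (CommRingCat.of k)).inv ≫ q.appTop) ≫ X.presheaf.germ ⊤ x trivial ≫ X.residue x := by rfl
    rw [h, Spec.map_comp, Spec.map_comp, Scheme.fromSpecResidueField, Category.assoc, Category.assoc,
      Scheme.fromSpecStalk_toSpecΓ_assoc]
  have := ConcreteCategory.bijective_of_isIso (residueFieldIsoBase q x hx).inv
  rw [← e] at this
  exact this

/-- Everything we need about the local ring of a smooth variety at a closed point. -/
theorem smooth_data [IsAlgClosed k] [IsIntegral X] (q : X ⟶ Spec (CommRingCat.of k)) [Smooth q] (d : ℕ)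
    (hd : topologicalKrullDim ↥X = d) {x : X} (hx : IsClosed ({x} : Set X)) :
    letI := (phi q x).toAlgebra
    Algebra.FormallySmooth k (X.presheaf.stalk x) ∧ Algebra.EssFiniteType k (X.presheaf.stalk x) ∧
      Function.Bijective (algebraMap k (ResidueField (X.presheaf.stalk x))) ∧
      Module.Free (X.presheaf.stalk x) Ω[X.presheaf.stalk x⁄k] ∧
      Module.Finite (X.presheaf.stalk x) Ω[X.presheaf.stalk x⁄k] ∧
      Module.finrank (X.presheaf.stalk x) Ω[X.presheaf.stalk x⁄k] = d := by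
  letI := (phi q x).toAlgebra
  let T := X.presheaf.stalk x
  obtain ⟨U, hU, hxU, -⟩ := exists_isAffineOpen_mem_and_subset (X := X) (x := x) (U := ⊤) trivial
  have h := HasRingHomProperty.appLE (P := @Smooth) q inferInstance ⟨⊤, isAffineOpen_top _⟩ ⟨U, hU⟩ le_top
  let ψ : k →+* Γ(X, U) := (q.appLE ⊤ U le_top).hom.comp (Scheme.ΓSpecIso (CommRingCat.of k)).inv.hom
  have hψ : ψ.Smooth := RingHom.Smooth.respectsIso.2 _
    (Scheme.ΓSpecIso (CommRingCat.of k)).symm.commRingCatIsoToRingEquiv h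
  algebraize [ψ]
  letI : Algebra Γ(X, U) T := TopCat.Presheaf.algebra_section_stalk X.presheaf ⟨x, hxU⟩
  haveI := hU.isLocalization_stalk ⟨x, hxU⟩
  haveI : IsScalarTower k Γ(X, U) T := .of_algebraMap_eq' (by
    show phi q x = _
    rw [phi]
    refine congrArg CommRingCat.Hom.hom (?_ : _ = ((Scheme.ΓSpecIso (CommRingCat.of k)).inv ≫ q.appLE ⊤ U le_top) ≫
      X.presheaf.germ U x hxU)
    rw [Category.assoc, Scheme.Hom.appLE, Category.assoc, TopCat.Presheaf.germ_res]
    rfl)
  haveI : Algebra.FormallySmooth Γ(X, U) T := .of_isLocalization (hU.primeIdealOf ⟨x, hxU⟩).asIdeal.primeCompl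
  haveI : Algebra.EssFiniteType Γ(X, U) T := .of_isLocalization _ (hU.primeIdealOf ⟨x, hxU⟩).asIdeal.primeCompl
  haveI : Algebra.FormallySmooth k T := Algebra.FormallySmooth.comp k Γ(X, U) T
  haveI : Algebra.EssFiniteType k T := Algebra.EssFiniteType.comp k Γ(X, U) T
  haveI : Module.Free T Ω[T⁄k] := Module.free_of_flat_of_isLocalRing
  have hres : Function.Bijective (algebraMap k (ResidueField T)) := residue_phi_bijective q hx
  refine ⟨inferInstance, inferInstance, hres, inferInstance, inferInstance, ?_⟩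
  haveI : IsRegularLocalRing T := ASp.isRegularLocalRing_stalk_of_smooth_field q x
  rw [finrank_kaehler_eq k T hres]
  have hT : ringKrullDim T = (d : WithBot ℕ∞) := by
    rw [← DimFormulaLib.localDim_eq_of_isClosed q x hx, ← hd]
    refine le_antisymm ?_ (le_iInf fun V => ?_)
    · refine (iInf_le _ (⟨⊤, trivial⟩ : {V : TopologicalSpace.Opens X // x ∈ V})).trans ?_
      exact (DimFormulaLib.topologicalKrullDim_opens q ⊤ ⟨x, trivial⟩).le
    · exact (DimFormulaLib.topologicalKrullDim_opens q V.1 ⟨x, V.2⟩).ge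
  have h1 := IsRegularLocalRing.spanFinrank_maximalIdeal (R := T)
  rw [hT, spanFinrank_maximalIdeal_eq_finrank_cotangentSpace] at h1
  exact_mod_cast h1

/-- Stalks of differentials. -/
theorem exists_equiv_chart (f : X ⟶ Y) {x : X} {V : Y.Opens} {U : X.Opens} (hV : IsAffineOpen V) (hU : IsAffineOpen U)
    (e : U ≤ f ⁻¹ᵁ V) (hxU : x ∈ U) :
    letI := (f.appLE V U e).hom.toAlgebra
    letI := (f.stalkMap x).hom.toAlgebra
    letI : Algebra Γ(X, U) (X.presheaf.stalk x) := TopCat.Presheaf.algebra_section_stalk X.presheaf ⟨x, hxU⟩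
    Nonempty (X.presheaf.stalk x ⊗[Γ(X, U)] Ω[Γ(X, U)⁄Γ(Y, V)] ≃ₗ[X.presheaf.stalk x]
      Ω[X.presheaf.stalk x⁄Y.presheaf.stalk (f x)]) := by
  let T := X.presheaf.stalk x
  let T₂ := Y.presheaf.stalk (f x)
  letI := (f.appLE V U e).hom.toAlgebra
  letI := (f.stalkMap x).hom.toAlgebra
  letI : Algebra Γ(X, U) T := TopCat.Presheaf.algebra_section_stalk X.presheaf ⟨x, hxU⟩
  letI : Algebra Γ(Y, V) T₂ := TopCat.Presheaf.algebra_section_stalk Y.presheaf ⟨f x, e hxU⟩
  haveI := hU.isLocalization_stalk ⟨x, hxU⟩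
  haveI := hV.isLocalization_stalk ⟨f x, e hxU⟩
  letI : Algebra Γ(Y, V) T := (Y.presheaf.germ V (f x) (e hxU) ≫ f.stalkMap x).hom.toAlgebra
  haveI : IsScalarTower Γ(Y, V) T₂ T := .of_algebraMap_eq' rfl
  haveI : IsScalarTower Γ(Y, V) Γ(X, U) T := .of_algebraMap_eq' (by
    refine congrArg CommRingCat.Hom.hom (?_ : Y.presheaf.germ V (f x) (e hxU) ≫ f.stalkMap x =
      f.appLE V U e ≫ X.presheaf.germ U x hxU)
    rw [Scheme.Hom.germ_stalkMap, Scheme.Hom.appLE, Category.assoc, TopCat.Presheaf.germ_res])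
  exact nonempty_equiv_localization (hV.primeIdealOf ⟨f x, e hxU⟩).asIdeal.primeCompl
    (hU.primeIdealOf ⟨x, hxU⟩).asIdeal.primeCompl

/-- Relative differentials have rank `m` at the points of a standard smooth chart. -/
theorem finrank_of_std (f : X ⟶ Y) {x : X} {V : Y.Opens} {U : X.Opens} (hV : IsAffineOpen V) (hU : IsAffineOpen U)
    (e : U ≤ f ⁻¹ᵁ V) (hxU : x ∈ U) (m : ℕ) (h : (f.appLE V U e).hom.IsStandardSmoothOfRelativeDimension m) :
    letI := (f.stalkMap x).hom.toAlgebra
    Module.finrank (X.presheaf.stalk x) Ω[X.presheaf.stalk x⁄Y.presheaf.stalk (f x)] = m := by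
  letI := (f.appLE V U e).hom.toAlgebra
  letI := (f.stalkMap x).hom.toAlgebra
  letI : Algebra Γ(X, U) (X.presheaf.stalk x) := TopCat.Presheaf.algebra_section_stalk X.presheaf ⟨x, hxU⟩
  haveI : Algebra.IsStandardSmoothOfRelativeDimension m Γ(Y, V) Γ(X, U) := h
  haveI : Algebra.IsStandardSmooth Γ(Y, V) Γ(X, U) := Algebra.IsStandardSmoothOfRelativeDimension.isStandardSmooth m
  haveI : Nontrivial Γ(X, U) := (X.presheaf.germ U x hxU).hom.domain_nontrivial
  obtain ⟨ε⟩ := exists_equiv_chart f hV hU e hxU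
  rw [← ε.finrank_eq, Module.finrank_baseChange]
  exact Module.finrank_eq_of_rank_eq (Algebra.IsStandardSmoothOfRelativeDimension.rank_kaehlerDifferential m)

/-- The stalk of the sheaf of differentials. -/
theorem freeAt_omega_iff (f : X ⟶ Y) [QuasiSeparated f] (x : X) (n : ℕ) :
    letI := (f.stalkMap x).hom.toAlgebra
    PullbackMod.FreeAt n (Omega.sheaf f) x ↔
      Nonempty (Ω[X.presheaf.stalk x⁄Y.presheaf.stalk (f x)] ≃ₗ[X.presheaf.stalk x] (Fin n → X.presheaf.stalk x)) := by
  have hd := OmegaUnivLib.isUniversal_dOmega f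
  haveI := OmegaUnivLib.isQCoh_of_universal hd
  obtain ⟨_, ⟨V, hV, rfl⟩, hxV, -⟩ :=
    Y.isBasis_affineOpens.exists_subset_of_mem_open (Set.mem_univ (f x)) isOpen_univ
  obtain ⟨_, ⟨U, hU, rfl⟩, hxU, hUV⟩ :=
    X.isBasis_affineOpens.exists_subset_of_mem_open (a := x) hxV (f ⁻¹ᵁ V).2
  have e : U ≤ f ⁻¹ᵁ V := hUV
  letI := (f.appLE V U e).hom.toAlgebra
  letI := (f.stalkMap x).hom.toAlgebra
  obtain ⟨L, hL⟩ := OmegaUnivLib.exists_lin_of_der (OmegaSh.dOmega f) e
  let E := LinearEquiv.ofBijective L (OmegaUnivLib.bijective_of_universal hV hU e hd L hL)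
  let M := Omega.sheaf f
  letI := Module.compHom (M.presheaf.stalk x) (X.presheaf.germ U x hxU).hom
  haveI := FlatLocus.isLocalizedModule_germL M hU x hxU
  letI : Algebra Γ(X, U) (X.presheaf.stalk x) := TopCat.Presheaf.algebra_section_stalk X.presheaf ⟨x, hxU⟩
  haveI := hU.isLocalization_stalk ⟨x, hxU⟩
  haveI : IsScalarTower Γ(X, U) (X.presheaf.stalk x) (M.presheaf.stalk x) := .of_algebraMap_smul fun _ _ => rfl
  obtain ⟨ε⟩ := exists_equiv_chart f hV hU e hxU
  let η : M.presheaf.stalk x ≃ₗ[X.presheaf.stalk x] Ω[X.presheaf.stalk x⁄Y.presheaf.stalk (f x)] :=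
    (IsLocalizedModule.isBaseChange (hU.primeIdealOf ⟨x, hxU⟩).asIdeal.primeCompl
      (X.presheaf.stalk x) (FlatLocus.germL M U x hxU)).equiv.symm.trans
      ((E.symm.baseChange Γ(X, U) (X.presheaf.stalk x)).trans ε)
  exact ⟨fun ⟨a⟩ => ⟨η.symm.trans a⟩, fun ⟨a⟩ => ⟨η.trans a⟩⟩

variable (k) in
/-- Hypotheses of all the criteria. -/
theorem stalkMapAt_rfl (f : X ⟶ Y) (x : X) : FixPt.stalkMapAt f x (f.base x) rfl = (f.stalkMap x).hom := by
  simp [FixPt.stalkMapAt]

variable [IsAlgClosed k] [IsIntegral X] [IsIntegral Y] (qX : X ⟶ Spec (CommRingCat.of k)) (qY : Y ⟶ Spec (CommRingCat.of k))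
  [Smooth qX] [Smooth qY] [IsSeparated qY] (f : X ⟶ Y) (hf : f ≫ qY = qX) {dX dY : ℕ}
  (hX : topologicalKrullDim ↥X = dX) (hY : topologicalKrullDim ↥Y = dY)

include hf in
omit [IsAlgClosed k] [IsIntegral X] [IsIntegral Y] [Smooth qY] [IsSeparated qY] in
theorem locallyOfFinitePresentation [LocallyOfFiniteType qY] : LocallyOfFinitePresentation f := by
  haveI : IsLocallyNoetherian Y := LocallyOfFiniteType.isLocallyNoetherian qY
  haveI : LocallyOfFiniteType (f ≫ qY) := by rw [hf]; infer_instance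
  haveI : LocallyOfFiniteType f := locallyOfFiniteType_of_comp f qY
  infer_instance

include hf hX hY in
/-- Cotangent injective, split injectivity, formal smoothness and the rank at a closed point. -/
theorem closedPoint_data {x : X} (hx : IsClosed ({x} : Set X)) :
    letI := (f.stalkMap x).hom.toAlgebra
    (Function.Injective (FixPt.cotangentMapAt f x (f.base x) rfl) ↔ (f.stalkMap x).hom.FormallySmooth) ∧
    ((f.stalkMap x).hom.FormallySmooth →
      Nonempty (Ω[X.presheaf.stalk x⁄Y.presheaf.stalk (f x)] ≃ₗ[X.presheaf.stalk x]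
        (Fin (dX - dY) → X.presheaf.stalk x)) ∧
      Module.finrank (X.presheaf.stalk x) Ω[X.presheaf.stalk x⁄Y.presheaf.stalk (f x)] + dY = dX) ∧
    (∀ n : ℕ, n + dY = dX → Nonempty (Ω[X.presheaf.stalk x⁄Y.presheaf.stalk (f x)] ≃ₗ[X.presheaf.stalk x]
      (Fin n → X.presheaf.stalk x)) → (f.stalkMap x).hom.FormallySmooth) := by
  haveI := LocallyOfFiniteType.jacobsonSpace qX
  haveI := LocallyOfFiniteType.jacobsonSpace qY
  haveI := locallyOfFinitePresentation qX qY f hf
  have hy : IsClosed ({f x} : Set Y) := f.closePoints_subset_preimage_closedPoints hx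
  obtain ⟨h1, h2, h3, h4, h5, h6⟩ := smooth_data qX dX hX hx
  obtain ⟨g1, g2, g3, g4, g5, g6⟩ := smooth_data qY dY hY hy
  let T := X.presheaf.stalk x
  let T₂ := Y.presheaf.stalk (f x)
  letI := (phi qX x).toAlgebra
  letI := (phi qY (f x)).toAlgebra
  letI := (f.stalkMap x).hom.toAlgebra
  haveI : IsScalarTower k T₂ T := .of_algebraMap_eq' (phi_comp f qY hf x).symm
  haveI : IsLocalHom (algebraMap T₂ T) := inferInstanceAs (IsLocalHom (f.stalkMap x).hom)
  haveI := h1; haveI := h2; haveI := h4; haveI := h5; haveI := g1; haveI := g2; haveI := g4; haveI := g5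
  have hle : maximalIdeal T₂ ≤ (maximalIdeal T).comap (algebraMap T₂ T).toIntAlgHom := fun a ha => by
    exact map_nonunit (algebraMap T₂ T) a ha
  have hcot : (Function.Injective (FixPt.cotangentMapAt f x (f.base x) rfl)) ↔
      Function.Injective (Ideal.mapCotangent (maximalIdeal T₂) (maximalIdeal T) (algebraMap T₂ T).toIntAlgHom hle) := by
    have : ∀ (σ : T₂ →+* T) (hσ : σ = algebraMap T₂ T) (h : maximalIdeal T₂ ≤ (maximalIdeal T).comap σ.toIntAlgHom),
        Function.Injective (Ideal.mapCotangent (maximalIdeal T₂) (maximalIdeal T) σ.toIntAlgHom h) ↔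
          Function.Injective (Ideal.mapCotangent (maximalIdeal T₂) (maximalIdeal T) (algebraMap T₂ T).toIntAlgHom hle) := by
      rintro σ rfl h
      rfl
    exact this _ (stalkMapAt_rfl f x) _
  have hsmooth : (f.stalkMap x).hom.FormallySmooth ↔ Algebra.FormallySmooth T₂ T := Iff.rfl
  have key : ∀ l : Ω[T⁄k] →ₗ[T] T ⊗[T₂] Ω[T₂⁄k], l ∘ₗ KaehlerDifferential.mapBaseChange k T₂ T = LinearMap.id →
      Algebra.FormallySmooth T₂ T ∧ Module.finrank T Ω[T⁄T₂] + dY = dX := fun l hl => by
    obtain ⟨ha, hb⟩ := formallySmooth_of_leftInverse (k := k) l hl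
    exact ⟨ha, by rw [← g6, ← h6]; exact hb⟩
  have hsplit := (IsLocalRing.split_injective_iff_lTensor_residueField_injective
    (KaehlerDifferential.mapBaseChange k T₂ T))
  refine ⟨?_, fun h => ?_, fun n hn ⟨a⟩ => ?_⟩
  · rw [hcot, ← injective_baseChange_iff (k := k) h3 g3 hle, hsmooth]
    refine ⟨fun h => ?_, fun h => ?_⟩
    · obtain ⟨l, hl⟩ := hsplit.mpr h
      exact (key l hl).1
    · exact injective_baseChange_of_formallySmooth
  · haveI : Algebra.FormallySmooth T₂ T := h
    obtain ⟨l, hl⟩ := hsplit.mpr (injective_baseChange_of_formallySmooth (k := k) (T := T) (T₂ := T₂))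
    obtain ⟨-, hr⟩ := key l hl
    haveI : Algebra.EssFiniteType T₂ T := Algebra.EssFiniteType.of_comp k T₂ T
    haveI : Module.Free T Ω[T⁄T₂] := Module.free_of_flat_of_isLocalRing
    refine ⟨⟨(Module.finBasisOfFinrankEq T Ω[T⁄T₂] ?_).equivFun⟩, hr⟩
    show Module.finrank T Ω[T⁄T₂] = dX - dY
    omega
  · haveI : Module.Free T Ω[T⁄T₂] := Module.Free.of_equiv a.symm
    haveI : Module.Finite T Ω[T⁄T₂] := Module.Finite.equiv a.symm
    obtain ⟨l, hl⟩ := exists_leftInverse_of_rank (k := k) (T := T) (T₂ := T₂) (by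
      rw [a.finrank_eq, Module.finrank_fin_fun, g6, h6]; exact hn)
    exact hsmooth.mpr (key l hl).1

include hf hX hY in
/-- Smoothness of relative dimension `n` is tested at closed points. -/
theorem smoothOfRelativeDimension_of_closedPoints (n : ℕ) (hn : n + dY = dX)
    (h : ∀ x : X, IsClosed ({x} : Set X) → (f.stalkMap x).hom.FormallySmooth) : SmoothOfRelativeDimension n f := by
  haveI := LocallyOfFiniteType.jacobsonSpace qX
  haveI := locallyOfFinitePresentation qX qY f hf
  haveI : Smooth f := by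
    rw [← Scheme.Hom.smoothLocus_eq_top_iff]
    by_contra hne
    obtain ⟨x, hx, hxc⟩ := nonempty_inter_closedPoints (Z := (f.smoothLocus : Set X)ᶜ)
      (by rwa [Set.nonempty_compl, Opens.coe_eq_univ.ne]) f.smoothLocus.2.isClosed_compl.isLocallyClosed
    exact hx (h x hxc)
  refine ⟨fun x => ?_⟩
  obtain ⟨V, hV, U, hU, hxU, e, hstd⟩ := Smooth.exists_isStandardSmooth f x
  algebraize [(f.appLE V U e).hom]
  obtain ⟨ι, σ, _, _, ⟨P⟩⟩ := (‹Algebra.IsStandardSmooth Γ(Y, V) Γ(X, U)›).out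
  have hP : (f.appLE V U e).hom.IsStandardSmoothOfRelativeDimension P.dimension :=
    Algebra.IsStandardSmoothOfRelativeDimension.mk ⟨ι, σ, inferInstance, inferInstance, P, rfl⟩
  obtain ⟨x₀, hx₀, hx₀c⟩ := nonempty_inter_closedPoints (Z := (U : Set X)) ⟨x, hxU⟩ U.2.isLocallyClosed
  have hr := ((closedPoint_data qX qY f hf hX hY hx₀c).2.1 (h x₀ hx₀c)).2
  rw [finrank_of_std f hV hU e hx₀ _ hP] at hr
  obtain rfl : n = P.dimension := by omega
  exact ⟨V, hV, U, hU, hxU, e, hP⟩

end Groth.Agent.RatPtSmooth
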