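import Mathlib

/-!
Cotangent criterion for smoothness at rational points.
-/

set_option autoImplicit false
set_option linter.style.haveILetI false
universe u

open IsLocalRing TensorProduct KaehlerDifferential

namespace Groth.Agent.RatPtSmooth

/-- The conormal map of a formally smooth quotient is injective. -/
theorem injective_kerCotangentToTensor {R P S : Type u} [CommRing R] [CommRing P] [CommRing S] [Algebra R P]
    [Algebra R S] [Algebra P S] [IsScalarTower R P S] (hf : Function.Surjective (algebraMap P S))
    [Algebra.FormallySmooth R S] : Function.Injective (KaehlerDifferential.kerCotangentToTensor R P S) := by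
  let f := IsScalarTower.toAlgHom R P S
  have hk : Function.Surjective f.kerSquareLift := fun s => by
    obtain ⟨p, hp⟩ := hf s
    exact ⟨Ideal.Quotient.mk _ p, hp⟩
  have hker := AlgHom.ker_kerSquareLift f
  have hn : IsNilpotent (RingHom.ker f.kerSquareLift.toRingHom) :=
    ⟨2, by rw [hker]; exact Ideal.cotangentIdeal_square _⟩
  let g := Algebra.FormallySmooth.liftOfSurjective (AlgHom.id R S) f.kerSquareLift hk hn
  have hg := Algebra.FormallySmooth.comp_liftOfSurjective (AlgHom.id R S) f.kerSquareLift hk hn
  let e := (retractionKerCotangentToTensorEquivSection (R := R) (P := P) (S := S) hf).symm ⟨g, hg⟩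
  exact Function.LeftInverse.injective (g := e.1) fun x => LinearMap.congr_fun e.2 x

variable (k : Type u) [Field k] (T : Type u) [CommRing T] [IsLocalRing T] [Algebra k T]

/-- The map from the cotangent space to differentials on the residue field. -/
noncomputable def kappa : CotangentSpace T →ₗ[T] ResidueField T ⊗[T] Ω[T⁄k] :=
  (kerCotangentToTensor k T (ResidueField T)).comp
    (Ideal.mapCotangent (maximalIdeal T) (RingHom.ker (algebraMap T (ResidueField T))) (AlgHom.id T T)
      (fun x hx => (residue_eq_zero_iff x).mpr hx))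

theorem kappa_toCotangent (x : maximalIdeal T) :
    kappa k T ((maximalIdeal T).toCotangent x) = 1 ⊗ₜ D k T (x : T) := by
  rw [kappa, LinearMap.comp_apply, Ideal.mapCotangent_toCotangent, kerCotangentToTensor_toCotangent]
  rfl

theorem kappa_bijective (h : Function.Bijective (algebraMap k (ResidueField T))) :
    Function.Bijective (kappa k T) := by
  haveI : Algebra.FormallySmooth k (ResidueField T) := .of_equiv (AlgEquiv.ofBijective (Algebra.ofId k _) h)
  have hs : Function.Surjective (algebraMap T (ResidueField T)) := residue_surjective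
  have hk : RingHom.ker (algebraMap T (ResidueField T)) = maximalIdeal T := ker_residue
  rw [kappa, LinearMap.coe_comp]
  refine Function.Bijective.comp ⟨?_, ?_⟩ ⟨?_, ?_⟩
  · exact injective_kerCotangentToTensor hs
  · intro z
    refine ((exact_kerCotangentToTensor_mapBaseChange k T (ResidueField T) hs) z).1 ?_
    haveI : Algebra.FormallyUnramified k (ResidueField T) := .of_surjective (Algebra.ofId k _) h.2
    exact Subsingleton.elim _ _
  · intro a b hab
    obtain ⟨a, rfl⟩ := (maximalIdeal T).toCotangent_surjective a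
    obtain ⟨b, rfl⟩ := (maximalIdeal T).toCotangent_surjective b
    rw [Ideal.mapCotangent_toCotangent, Ideal.mapCotangent_toCotangent, Ideal.toCotangent_eq] at hab
    rw [Ideal.toCotangent_eq]
    have he : RingHom.ker (algebraMap T (ResidueField T)) ^ 2 = maximalIdeal T ^ 2 := by rw [hk]
    exact he.le hab
  · intro z
    obtain ⟨z, rfl⟩ := (RingHom.ker (algebraMap T (ResidueField T))).toCotangent_surjective z
    exact ⟨(maximalIdeal T).toCotangent ⟨z, hk.le z.2⟩, rfl⟩

/-- The differentials of a smooth local algebra with trivial residue extension have rank `dim m/m²`. -/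
theorem finrank_kaehler_eq (h : Function.Bijective (algebraMap k (ResidueField T)))
    [Module.Free T Ω[T⁄k]] [Module.Finite T Ω[T⁄k]] :
    Module.finrank T Ω[T⁄k] = Module.finrank (ResidueField T) (CotangentSpace T) := by
  let e := (LinearMap.extendScalarsOfSurjective (residue_surjective (R := T)) (kappa k T))
  have he : Function.Bijective e := kappa_bijective k T h
  rw [(LinearEquiv.ofBijective e he).finrank_eq, Module.finrank_baseChange]

variable {k T}
variable {T₂ : Type u} [CommRing T₂] [IsLocalRing T₂] [Algebra k T₂] [Algebra T₂ T] [IsScalarTower k T₂ T]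
  [IsLocalHom (algebraMap T₂ T)]

/-- The cotangent map is injective iff differentials pull back injectively on the residue field. -/
theorem injective_baseChange_iff (h : Function.Bijective (algebraMap k (ResidueField T)))
    (h₂ : Function.Bijective (algebraMap k (ResidueField T₂)))
    (hle : maximalIdeal T₂ ≤ (maximalIdeal T).comap (algebraMap T₂ T).toIntAlgHom) :
    Function.Injective ((mapBaseChange k T₂ T).baseChange (ResidueField T)) ↔
      Function.Injective (Ideal.mapCotangent (maximalIdeal T₂) (maximalIdeal T) (algebraMap T₂ T).toIntAlgHom hle) := by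
  let j : ResidueField T₂ →ₐ[T₂] ResidueField T := IsScalarTower.toAlgHom T₂ (ResidueField T₂) (ResidueField T)
  have hj : Function.Bijective j := by
    have hc : ∀ a : k, j (algebraMap k (ResidueField T₂) a) = algebraMap k (ResidueField T) a := fun a => by
      rw [IsScalarTower.algebraMap_apply k T₂ (ResidueField T₂), AlgHom.commutes, ← IsScalarTower.algebraMap_apply]
    refine ⟨fun a b hab => ?_, fun z => ?_⟩
    · exact RingHom.injective (j : ResidueField T₂ →+* ResidueField T) hab
    · obtain ⟨a, rfl⟩ := h.2 z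
      exact ⟨_, hc a⟩
  let e : ResidueField T₂ ⊗[T₂] Ω[T₂⁄k] ≃ₗ[T₂] ResidueField T ⊗[T] (T ⊗[T₂] Ω[T₂⁄k]) :=
    (TensorProduct.congr (LinearEquiv.ofBijective j.toLinearMap hj) (LinearEquiv.refl T₂ _)).trans
      ((TensorProduct.AlgebraTensorModule.cancelBaseChange T₂ T (ResidueField T) (ResidueField T) Ω[T₂⁄k]).symm.restrictScalars T₂)
  have hsq : ((mapBaseChange k T₂ T).baseChange (ResidueField T) : _ → _) ∘ (e ∘ kappa k T₂) =
      (kappa k T : _ → _) ∘ Ideal.mapCotangent (maximalIdeal T₂) (maximalIdeal T) (algebraMap T₂ T).toIntAlgHom hle := by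
    funext c
    obtain ⟨x, rfl⟩ := (maximalIdeal T₂).toCotangent_surjective c
    simp only [Function.comp_apply, kappa_toCotangent, Ideal.mapCotangent_toCotangent]
    simp only [e, LinearEquiv.trans_apply, TensorProduct.congr_tmul, LinearEquiv.ofBijective_apply, LinearEquiv.refl_apply,
      LinearEquiv.restrictScalars_apply, AlgHom.toLinearMap_apply, map_one,
      TensorProduct.AlgebraTensorModule.cancelBaseChange_symm_tmul, LinearMap.baseChange_tmul, mapBaseChange_tmul,
      one_smul, map_D]
    rfl
  have hb : Function.Bijective (e ∘ kappa k T₂) := e.bijective.comp (kappa_bijective k T₂ h₂)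
  rw [← Function.Injective.of_comp_iff' _ hb, hsq, Function.Injective.of_comp_iff (kappa_bijective k T h).1]

omit [IsLocalHom (algebraMap T₂ T)] in
/-- A retraction of the pullback of differentials gives formal smoothness and the rank of the quotient. -/
theorem formallySmooth_of_leftInverse [Algebra.FormallySmooth k T] [Module.Free T Ω[T⁄k]]
    [Module.Free T₂ Ω[T₂⁄k]] [Module.Finite T Ω[T⁄k]] [Module.Finite T₂ Ω[T₂⁄k]]
    (l : Ω[T⁄k] →ₗ[T] T ⊗[T₂] Ω[T₂⁄k]) (hl : l ∘ₗ mapBaseChange k T₂ T = LinearMap.id) :
    Algebra.FormallySmooth T₂ T ∧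
      Module.finrank T Ω[T⁄T₂] + Module.finrank T₂ Ω[T₂⁄k] = Module.finrank T Ω[T⁄k] := by
  let f := mapBaseChange k T₂ T
  let g := KaehlerDifferential.map k T₂ T T
  have hfi : Function.Injective f := Function.LeftInverse.injective (DFunLike.congr_fun hl)
  have hex : Function.Exact f g := exact_mapBaseChange_map k T₂ T
  have hgs : Function.Surjective g := map_surjective k T₂ T
  let e : Ω[T⁄k] ≃ₗ[T] (T ⊗[T₂] Ω[T₂⁄k]) × Ω[T⁄T₂] := LinearEquiv.ofBijective (l.prod g) (by
    refine ⟨(injective_iff_map_eq_zero _).2 fun a ha => ?_, fun p => ?_⟩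
    · replace ha : l a = 0 ∧ g a = 0 := Prod.mk_eq_zero.1 ha
      obtain ⟨b, rfl⟩ := (hex a).1 ha.2
      have : b = 0 := (DFunLike.congr_fun hl b).symm.trans ha.1
      rw [this, map_zero]
    · obtain ⟨a, ha⟩ := hgs p.2
      refine ⟨a - f (l a) + f p.1, ?_⟩
      have h1 : ∀ b, l (f b) = b := DFunLike.congr_fun hl
      ext
      · simp [h1]
      · simp [hex.apply_apply_eq_zero, ha])
  haveI : Module.Projective T Ω[T⁄T₂] := .of_split (e.symm.toLinearMap ∘ₗ LinearMap.inr _ _ _)
    ((LinearMap.snd _ _ _) ∘ₗ e.toLinearMap) (by ext; simp)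
  haveI : Module.Finite T Ω[T⁄T₂] := Module.Finite.of_surjective g hgs
  haveI : Module.Free T Ω[T⁄T₂] := Module.free_of_flat_of_isLocalRing
  refine ⟨⟨‹_›, ⟨fun a b => ?_⟩⟩, ?_⟩
  · have h0 : ∀ a : Algebra.H1Cotangent T₂ T, a = 0 := fun a => by
      have ha : Algebra.H1Cotangent.δ k T₂ T a = 0 :=
        hfi (((Algebra.H1Cotangent.exact_δ_mapBaseChange k T₂ T).apply_apply_eq_zero a).trans (map_zero f).symm)
      obtain ⟨c, rfl⟩ := (Algebra.H1Cotangent.exact_map_δ k T₂ T a).mp ha
      rw [Subsingleton.elim c 0, map_zero]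
    rw [h0 a, h0 b]
  · rw [e.finrank_eq, Module.finrank_prod, Module.finrank_baseChange, add_comm]

/-- Differentials pull back split injectively along a formally smooth map. -/
theorem injective_baseChange_of_formallySmooth [Algebra.FormallySmooth k T] [Algebra.FormallySmooth T₂ T] :
    Function.Injective ((mapBaseChange k T₂ T).baseChange (ResidueField T)) := by
  have hfi : Function.Injective (mapBaseChange k T₂ T) := by
    rw [injective_iff_map_eq_zero]
    intro t ht
    obtain ⟨s, rfl⟩ := (Algebra.H1Cotangent.exact_δ_mapBaseChange k T₂ T t).mp ht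
    rw [Subsingleton.elim s 0, map_zero]
  obtain ⟨s, hs⟩ := Module.projective_lifting_property (KaehlerDifferential.map k T₂ T T) LinearMap.id
    (map_surjective k T₂ T)
  have h01 := ((exact_mapBaseChange_map k T₂ T).split_tfae hfi (map_surjective k T₂ T)).out 0 1
  obtain ⟨l, hl⟩ := h01.mp ⟨s, hs⟩
  have : (l.baseChange (ResidueField T)) ∘ₗ (mapBaseChange k T₂ T).baseChange (ResidueField T) = LinearMap.id := by
    rw [← LinearMap.baseChange_comp, hl, LinearMap.baseChange_id]
  exact Function.LeftInverse.injective (DFunLike.congr_fun this)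

omit [IsLocalRing T₂] [IsLocalHom (algebraMap T₂ T)] in
/-- When the relative differentials are free of complementary rank the pullback is split injective. -/
theorem exists_leftInverse_of_rank [IsLocalRing T₂] [Module.Free T Ω[T⁄k]] [Module.Free T₂ Ω[T₂⁄k]]
    [Module.Finite T Ω[T⁄k]] [Module.Finite T₂ Ω[T₂⁄k]] [Module.Free T Ω[T⁄T₂]] [Module.Finite T Ω[T⁄T₂]]
    (hr : Module.finrank T Ω[T⁄T₂] + Module.finrank T₂ Ω[T₂⁄k] = Module.finrank T Ω[T⁄k]) :
    ∃ l : Ω[T⁄k] →ₗ[T] T ⊗[T₂] Ω[T₂⁄k], l ∘ₗ mapBaseChange k T₂ T = LinearMap.id := by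
  obtain ⟨s, hs⟩ := Module.projective_lifting_property (KaehlerDifferential.map k T₂ T T) LinearMap.id
    (map_surjective k T₂ T)
  let h : (T ⊗[T₂] Ω[T₂⁄k]) × Ω[T⁄T₂] →ₗ[T] Ω[T⁄k] := (mapBaseChange k T₂ T).coprod s
  have hsur : Function.Surjective h := fun a => by
    have h1 : KaehlerDifferential.map k T₂ T T (a - s (KaehlerDifferential.map k T₂ T T a)) = 0 := by
      rw [map_sub, show KaehlerDifferential.map k T₂ T T (s _) = _ from LinearMap.congr_fun hs _, LinearMap.id_apply,
        sub_self]
    obtain ⟨b, hb⟩ := ((exact_mapBaseChange_map k T₂ T) _).1 h1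
    exact ⟨(b, KaehlerDifferential.map k T₂ T T a), by simp [h, hb]⟩
  have hfr : Module.finrank T ((T ⊗[T₂] Ω[T₂⁄k]) × Ω[T⁄T₂]) = Module.finrank T Ω[T⁄k] := by
    rw [Module.finrank_prod, Module.finrank_baseChange, add_comm]; exact hr
  let φ := LinearEquiv.ofFinrankEq _ _ hfr
  have hb : Function.Bijective (φ.symm.toLinearMap ∘ₗ h) :=
    OrzechProperty.bijective_of_surjective_endomorphism _ (φ.symm.surjective.comp hsur)
  have hbij : Function.Bijective h := by
    rw [LinearMap.coe_comp] at hb
    exact (Function.Bijective.of_comp_iff' φ.symm.bijective h).1 hb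
  refine ⟨LinearMap.fst T _ _ ∘ₗ (LinearEquiv.ofBijective h hbij).symm.toLinearMap, LinearMap.ext fun b => ?_⟩
  have : (LinearEquiv.ofBijective h hbij).symm (mapBaseChange k T₂ T b) = (b, 0) := by
    rw [LinearEquiv.symm_apply_eq]; simp [h]
  simp [this]

omit [IsLocalHom (algebraMap T₂ T)] in
/-- Differentials between local rings from those of an algebra map. -/
theorem nonempty_equiv_localization {A B : Type u} [CommRing A] [CommRing B] [Algebra A B] [Algebra A T₂] [Algebra B T]
    [Algebra A T] [IsScalarTower A B T] [IsScalarTower A T₂ T] (p : Submonoid A) (q : Submonoid B)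
    [IsLocalization p T₂] [IsLocalization q T] :
    Nonempty (T ⊗[B] Ω[B⁄A] ≃ₗ[T] Ω[T⁄T₂]) := by
  haveI : Algebra.FormallyEtale B T := .of_isLocalization q
  haveI : Algebra.FormallyEtale A T₂ := .of_isLocalization p
  let g := KaehlerDifferential.map A T₂ T T
  have hg : Function.Bijective g := by
    refine ⟨(injective_iff_map_eq_zero g).2 fun a ha => ?_, map_surjective A T₂ T⟩
    obtain ⟨b, rfl⟩ := ((exact_mapBaseChange_map A T₂ T) a).1 ha
    rw [show b = 0 from ?_, map_zero]
    clear ha
    induction b using TensorProduct.induction_on with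
    | zero => rfl
    | tmul t w => rw [Subsingleton.elim w 0, TensorProduct.tmul_zero]
    | add x y hx hy => rw [hx, hy, add_zero]
  exact ⟨(tensorKaehlerEquivOfFormallyEtale A B T).trans (LinearEquiv.ofBijective g hg)⟩

end Groth.Agent.RatPtSmooth
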